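import Groth.Agent.S14270
import Groth.Agent.PurePairLib.Main
import Groth.Agent.CatLib.Flat

/-!
# Pure pairs from presentations of local rings
-/

set_option autoImplicit false
set_option linter.style.haveILetI false
set_option backward.isDefEq.respectTransparency false
set_option backward.isDefEq.respectTransparency.types false
set_option maxHeartbeats 1000000

universe u

attribute [local instance] HasDerivedCategory.standard

open CategoryTheory CategoryTheory.Limits AlgebraicGeometry IsLocalRing RingTheory.Sequence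

noncomputable section

namespace VDimLib

theorem isPurePair_puncturedSpec (A : Type u) [CommRing A] [IsLocalRing A]
    (h : (FEt.restrict (FEt.puncturedSpec A).ι).IsEquivalence) :
    SGA2.IsPurePair (Spec (CommRingCat.of A)) (FEt.puncturedSpec A) := by
  intro V
  let X := Spec (CommRingCat.of A)
  by_cases hc : IsLocalRing.closedPoint A ∈ V
  · obtain rfl : V = ⊤ := top_le_iff.1 fun x _ => (IsLocalRing.specializes_closedPoint x).mem_open V.2 hc
    let e := X.isoOfEq (top_inf_eq (FEt.puncturedSpec A))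
    haveI := Groth.Agent.PurePair.restrict_iso_isEquivalence X.topIso
    let c := MorphismProperty.Over.pullbackComp (P := FEt.prop.{u}) (Q := ⊤)
      (X.homOfLE (inf_le_left : ⊤ ⊓ FEt.puncturedSpec A ≤ ⊤)) X.topIso.hom
      (e.hom ≫ (FEt.puncturedSpec A).ι) (by simp [e, X])
    haveI h1 : (FEt.restrict (e.hom ≫ (FEt.puncturedSpec A).ι)).IsEquivalence :=
      Groth.Agent.PurePair.restrict_isEquivalence_of_iso _ _ e rfl h
    haveI : (FEt.restrict X.topIso.hom ⋙
        FEt.restrict (X.homOfLE (inf_le_left : ⊤ ⊓ FEt.puncturedSpec A ≤ ⊤))).IsEquivalence :=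
      @Functor.isEquivalence_of_iso _ _ _ _ _ _ c h1
    exact Functor.isEquivalence_of_comp_left (FEt.restrict X.topIso.hom) _
  · have he : V ⊓ FEt.puncturedSpec A = V :=
      inf_eq_left.2 fun x hx hxc => hc (Set.mem_singleton_iff.1 hxc ▸ hx)
    have h2 : (X.isoOfEq he).hom = X.homOfLE (inf_le_left : V ⊓ FEt.puncturedSpec A ≤ V) := rfl
    exact h2 ▸ Groth.Agent.PurePair.restrict_iso_isEquivalence (X.isoOfEq he)

/-- Purity from a presentation by few elements, or by a regular sequence. -/
theorem isPurePair_of_presentation (R : Type u) [CommRing R] [IsRegularLocalRing R] (A : Type u) [CommRing A]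
    [IsLocalRing A] [IsNoetherianRing A] (π : R →+* A) (hπ : Function.Surjective π) (s : Finset R)
    (hker : RingHom.ker π = Ideal.span (s : Set R)) {d : ℕ} (hd : ringKrullDim R = d)
    (h : s.card + 3 ≤ d ∨
      (CInt.IsRegularIdeal (Ideal.span (s : Set R)) ∧ (3 : WithBot ℕ∞) ≤ ringKrullDim A)) :
    SGA2.IsPurePair (Spec (CommRingCat.of A)) (FEt.puncturedSpec A) := by
  classical
  obtain ⟨s', hker', hcard⟩ : ∃ s' : Finset R, RingHom.ker π = Ideal.span (s' : Set R) ∧ s'.card + 3 ≤ d := by
    rcases h with h | ⟨⟨rs, hreg, hrs⟩, hdim⟩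
    · exact ⟨s, hker, h⟩
    refine ⟨rs.toFinset, ?_, ?_⟩
    · rw [hker, ← hrs]
      exact congrArg Ideal.span (by ext; simp)
    · have h1 := ringKrullDim_add_length_eq_ringKrullDim_of_isRegular rs hreg
      let e : A ≃+* R ⧸ Ideal.ofList rs :=
        (RingHom.quotientKerEquivOfSurjective hπ).symm.trans (Ideal.quotEquivOfEq (hker.trans hrs.symm))
      obtain ⟨n, hn⟩ := CommAlgDim.exists_ringKrullDim_eq (R := A)
      rw [← ringKrullDim_eq_of_ringEquiv e, hn, hd] at h1
      rw [hn] at hdim
      have h2 : n + rs.length = d := by exact_mod_cast h1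
      have h3 : 3 ≤ n := by exact_mod_cast hdim
      have := rs.toFinset_card_le
      omega
  haveI := CIRingLib.isNoetherianRing_cpl R
  haveI := CIRingLib.isNoetherianRing_cpl A
  haveI : IsRegularLocalRing (CIRingLib.Cpl R) := (Groth.Agent.S0548.result R).1 inferInstance
  obtain ⟨σ, hσ, -, hk⟩ := CIRingLib.exists_cplMap π hπ
  let e : CIRingLib.Cpl A ≃+* CIRingLib.Cpl R ⧸
      Ideal.span ((s'.image (algebraMap R (CIRingLib.Cpl R)) : Finset (CIRingLib.Cpl R)) : Set (CIRingLib.Cpl R)) :=
    (RingHom.quotientKerEquivOfSurjective hσ).symm.trans (Ideal.quotEquivOfEq (by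
      rw [hk, hker', Ideal.map_span, Finset.coe_image]))
  refine isPurePair_puncturedSpec A (Groth.Agent.S14270.result A (CIRingLib.Cpl R) d ?_ _
    ((Nat.add_le_add_right Finset.card_image_le 3).trans hcard) e)
  rw [CatLib.ringKrullDim_cpl]
  exact hd

theorem isRegularIdeal_of_equiv {R R' : Type u} [CommRing R] [CommRing R'] (e : R ≃+* R') {I : Ideal R}
    (h : CInt.IsRegularIdeal I) : CInt.IsRegularIdeal (I.map (e : R →+* R')) := by
  obtain ⟨rs, hreg, rfl⟩ := h
  refine ⟨rs.map e, ?_, ?_⟩
  · exact ((AddEquiv.isRegular_congr (e := e.toAddEquiv) (as := rs) (bs := rs.map e)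
      (List.forall₂_map_right_iff.2 (List.forall₂_same.2 fun r _ x => by
        show e (r * x) = e r * e x
        exact map_mul e r x))).1 hreg)
  · exact (Ideal.map_ofList (e : R →+* R') rs).symm

/-- Purity of the completions of the localisations of a quotient by few equations. -/
theorem height_comap_eq (R : Type u) [CommRing R] [IsRegularLocalRing R] (J : Ideal R) [IsLocalRing (R ⧸ J)]
    (heq : EGA4.IsEquidim (R ⧸ J)) (c : ℕ)
    (hc : ringKrullDim R = ringKrullDim (R ⧸ J) + (c : WithBot ℕ∞)) (Q : Ideal (R ⧸ J)) [Q.IsPrime]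
    [(Q.comap (Ideal.Quotient.mk J)).IsPrime] :
    (Q.comap (Ideal.Quotient.mk J)).height = Q.height + c := by
  set π := Ideal.Quotient.mk J with hπdef
  set P := Q.comap π
  haveI : IsLocalRing (R ⧸ P) := IsLocalRing.of_surjective' _ Ideal.Quotient.mk_surjective
  have hJP : J ≤ P := fun x hx => Ideal.mem_comap.2 (by
    rw [show π x = 0 from Ideal.Quotient.eq_zero_iff_mem.2 hx]; exact zero_mem _)
  let eqP : ((R ⧸ J) ⧸ Q) ≃+* R ⧸ P :=
    (Ideal.quotEquivOfEq (Ideal.map_comap_of_surjective π Ideal.Quotient.mk_surjective Q).symm).trans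
      (DoubleQuot.quotQuotEquivQuotOfLE hJP)
  have hcat : CAlg.IsCatenary (R ⧸ J) := CatLib.isCatenary_quotient J
    (CatLib.isCatenary_of_isCMRing (CatLib.isCMRing_of_isCM (CommAlgDim.isCM_of_isRegularLocalRing R)))
  have h1 := CatLib.ringKrullDim_quotient_add_height_of_equidim heq hcat Q
  have h2 := CatLib.ringKrullDim_quotient_add_height (CommAlgDim.isCM_of_isRegularLocalRing R) P
  rw [ringKrullDim_eq_of_ringEquiv eqP] at h1
  rw [hc, ← h1, add_assoc] at h2
  obtain ⟨a, ha⟩ := CommAlgDim.exists_ringKrullDim_eq (R := R ⧸ P)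
  obtain ⟨x, hx⟩ := ENat.ne_top_iff_exists.1 (Ideal.height_ne_top (Ideal.IsPrime.ne_top ‹P.IsPrime›) : P.height ≠ ⊤)
  obtain ⟨y, hy⟩ := ENat.ne_top_iff_exists.1 (Ideal.height_ne_top (Ideal.IsPrime.ne_top ‹Q.IsPrime›) : Q.height ≠ ⊤)
  rw [ha, ← hx, ← hy] at h2
  rw [← hx, ← hy]
  have h3 : a + x = a + (y + c) := by exact_mod_cast h2
  exact_mod_cast (show x = y + c by omega)

end VDimLib
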