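import Groth.Agent.VDimLib.Main

/-! # Full faithfulness of restriction to the punctured spectrum -/

set_option autoImplicit false
set_option linter.style.haveILetI false
set_option backward.isDefEq.respectTransparency false
set_option backward.isDefEq.respectTransparency.types false
set_option maxHeartbeats 1000000

universe u

open CategoryTheory hiding IsConnected
open CategoryTheory.Limits AlgebraicGeometry IsLocalRing

noncomputable section

namespace VDimLib

theorem connectedSpace_puncturedSpec {A : Type u} [CommRing A] [IsLocalRing A] (h : IsConnected (punct A)) :
    ConnectedSpace ↥(FEt.puncturedSpec A : Scheme.{u}) :=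
  isConnected_iff_connectedSpace.1 h

/-- If all strict henselizations have connected punctured spectrum, so has the local ring at the closed point. -/
theorem connPunct_puncturedSpec (A : Type u) [CommRing A] [IsLocalRing A]
    (h : ∀ (R : Type u) [CommRing R] [IsLocalRing R] [Algebra A R] [IsLocalHom (algebraMap A R)]
      [Hensel.IsStrictHenselization A R], IsConnected (punct R)) :
    ConnInfLib.ConnPunct (FEt.puncturedSpec A) := by
  intro x hx R _ _ _ _ _
  obtain rfl : x = closedPoint A := by
    by_contra h'
    exact hx h'
  haveI : IsLocalization.AtPrime ((Spec.structureSheaf A).presheaf.stalk (closedPoint A)) (closedPoint A).asIdeal :=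
    StructureSheaf.IsLocalization.to_stalk A (closedPoint A)
  let e : A ≃+* (Spec (CommRingCat.of A)).presheaf.stalk (closedPoint A) :=
    (IsLocalization.atUnits A (closedPoint A).asIdeal.primeCompl
      (S := (Spec.structureSheaf A).presheaf.stalk (closedPoint A))
      fun m hm => not_not.1 fun hu => hm ((mem_maximalIdeal m).2 hu)).toRingEquiv
  obtain ⟨_, _, hR, -⟩ := LocAcycBCLib.exists_sh_of_equiv e R
  haveI := hR
  exact connectedSpace_puncturedSpec (h R)

theorem dense_puncturedSpec (A : Type u) [CommRing A] [IsLocalRing A] (h : (punct A).Nonempty) :
    Dense ((FEt.puncturedSpec A : (Spec (CommRingCat.of A)).Opens) : Set (Spec (CommRingCat.of A))) := by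
  intro x
  by_cases hx : x = closedPoint A
  · obtain ⟨p, hp⟩ := h
    subst hx
    exact (specializes_closedPoint p).mem_closed isClosed_closure (subset_closure hp)
  · exact subset_closure hx

end VDimLib
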