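import Groth.Agent.VDimLib.General
import Groth.Agent.PurityCILib.Main
import Groth.Agent.S1142
import Groth.Agent.S0376
import Groth.Agent.CommAlgDim.GlobalDim

/-!
# Purity for complete local rings of virtual dimension at least three
-/

set_option autoImplicit false
set_option linter.style.haveILetI false
set_option backward.isDefEq.respectTransparency false
set_option backward.isDefEq.respectTransparency.types false
set_option maxHeartbeats 1000000

universe u

attribute [local instance] HasDerivedCategory.standard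

open CategoryTheory AlgebraicGeometry IsLocalRing RingTheory.Sequence CommAlgDim PicLiftLib

noncomputable section

namespace VDimLib

theorem ringKrullDim_quotient_le_one {A : Type u} [CommRing A] [IsNoetherianRing A] [IsLocalRing A] {f : A}
    (hf : f ∈ maximalIdeal A) (P : Ideal (Localization.Away f)) [hP : P.IsMaximal] :
    f ∉ P.comap (algebraMap A (Localization.Away f)) ∧
      ringKrullDim (A ⧸ P.comap (algebraMap A (Localization.Away f))) ≤ 1 := by
  set q := P.comap (algebraMap A (Localization.Away f)) with hqdef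
  haveI : q.IsPrime := Ideal.comap_isPrime _ P
  have hfq : f ∉ q := fun h => hP.ne_top
    (Ideal.eq_top_of_isUnit_mem _ h (IsLocalization.Away.algebraMap_isUnit f))
  refine ⟨hfq, ?_⟩
  haveI : IsLocalRing (A ⧸ q) := IsLocalRing.of_surjective' _ Ideal.Quotient.mk_surjective
  rw [← IsLocalRing.maximalIdeal_height_eq_ringKrullDim]
  refine WithBot.coe_le_coe.2 (height_maximalIdeal_le_one (f := Ideal.Quotient.mk q f) ?_
    (fun e => hfq (Ideal.Quotient.eq_zero_iff_mem.1 e)) fun Q hQ hfQ => ?_)
  · rw [← IsLocalRing.map_maximalIdeal_of_surjective _ Ideal.Quotient.mk_surjective]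
    exact Ideal.mem_map_of_mem _ hf
  have hqQ : q ≤ Q.comap (Ideal.Quotient.mk q) := fun x hx => Ideal.mem_comap.2 (by
    rw [Ideal.Quotient.eq_zero_iff_mem.2 hx]; exact zero_mem _)
  have hdisj : Disjoint (Submonoid.powers f : Set A) (Q.comap (Ideal.Quotient.mk q) : Set A) :=
    Set.disjoint_left.2 fun x hx hxQ => by
      obtain ⟨n, rfl⟩ := hx
      exact hfQ ((Ideal.comap_isPrime (Ideal.Quotient.mk q) Q).mem_of_pow_mem n hxQ)
  have h1 : P ≤ (Q.comap (Ideal.Quotient.mk q)).map (algebraMap A (Localization.Away f)) := by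
    rw [← IsLocalization.map_under (Submonoid.powers f) (Localization.Away f) P]
    exact Ideal.map_mono hqQ
  have h2 := IsLocalization.isPrime_of_isPrime_disjoint (Submonoid.powers f) (Localization.Away f) _
    (Ideal.comap_isPrime (Ideal.Quotient.mk q) Q) hdisj
  have h3 : Q.comap (Ideal.Quotient.mk q) = q := by
    conv_lhs => rw [← IsLocalization.under_map_of_isPrime_disjoint (Submonoid.powers f) (Localization.Away f)
      (Ideal.comap_isPrime (Ideal.Quotient.mk q) Q) hdisj]
    exact congrArg (Ideal.comap _) (hP.eq_of_le h2.ne_top h1).symm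
  rw [← Ideal.map_comap_of_surjective _ Ideal.Quotient.mk_surjective Q, h3, Ideal.map_quotient_self]

/-- A localisation of `S / (l)` where `l` is weakly regular is a complete intersection of the expected dimension. -/
theorem localization_facts {S : Type u} [CommRing S] [IsRegularLocalRing S] {d : ℕ} (hd : ringKrullDim S = d)
    {I : Ideal S} {l : List S} (hreg : RegOff I l) [IsLocalRing (S ⧸ Ideal.ofList l)] (q : Ideal (S ⧸ Ideal.ofList l)) [q.IsPrime]
    (hI : ¬ I ≤ q.comap (Ideal.Quotient.mk (Ideal.ofList l))) :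
    ∃ n a : ℕ, ringKrullDim (Localization.AtPrime q) = n ∧ ringKrullDim ((S ⧸ Ideal.ofList l) ⧸ q) = a ∧
      n + a + l.length = d ∧ (n : ℕ∞) ≤ LocCoh.depth (Localization.AtPrime q) (Localization.AtPrime q) ∧
      (3 ≤ n → FEt.PurityHolds (Localization.AtPrime q)) := by
  set π := Ideal.Quotient.mk (Ideal.ofList l) with hπ
  let P := q.comap π
  haveI hP : P.IsPrime := Ideal.comap_isPrime π q
  haveI : IsRegularLocalRing (Localization.AtPrime P) := isRegularLocalRing_localization S P
  haveI : IsNoetherianRing (Localization.AtPrime q) := IsLocalization.isNoetherianRing q.primeCompl _ inferInstance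
  have hl : ∀ x ∈ l, x ∈ P := fun x hx => Ideal.mem_comap.2 (by
    rw [show π x = 0 from Ideal.Quotient.eq_zero_iff_mem.2 (Ideal.subset_span hx)]; exact zero_mem _)
  let l' := l.map (algebraMap S (Localization.AtPrime P))
  have hregP : IsRegular (Localization.AtPrime P) l' := by
    refine IsRegular.of_isWeaklyRegular_of_mem_maximalIdeal _ (fun x hx => ?_) (hreg P hI)
    obtain ⟨y, hy, rfl⟩ := List.mem_map.1 hx
    exact (IsLocalization.AtPrime.to_map_mem_maximal_iff _ P y).2 (hl y hy)
  have hsq : Function.Surjective (Localization.localRingHom P q π rfl) :=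
    RingHom.surjective_localRingHom_of_surjective π Ideal.Quotient.mk_surjective q
  let eq : Localization.AtPrime q ≃+* Localization.AtPrime P ⧸ Ideal.ofList l' :=
    (RingHom.quotientKerEquivOfSurjective hsq).symm.trans (Ideal.quotEquivOfEq (by
      rw [CIRingLib.ker_localRingHom π Ideal.Quotient.mk_surjective q, Ideal.mk_ker, Ideal.map_ofList]))
  haveI : IsLocalRing (Localization.AtPrime P ⧸ Ideal.ofList l') := eq.isLocalRing
  have hcm : IsCM (Localization.AtPrime q) :=
    CatLib.isCM_of_ringEquiv eq.symm (isCM_quot _ _ l' rfl (isCM_of_isRegularLocalRing _) hregP)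
  obtain ⟨n, hn⟩ := exists_ringKrullDim_eq (R := Localization.AtPrime q)
  let eqP : ((S ⧸ Ideal.ofList l) ⧸ q) ≃+* S ⧸ P :=
    (Ideal.quotEquivOfEq (Ideal.map_comap_of_surjective π Ideal.Quotient.mk_surjective q).symm).trans
      (DoubleQuot.quotQuotEquivQuotOfLE (fun x hx => Ideal.mem_comap.2 (by
        rw [show π x = 0 from Ideal.Quotient.eq_zero_iff_mem.2 hx]; exact zero_mem _)))
  haveI : IsLocalRing (S ⧸ P) := IsLocalRing.of_surjective' _ Ideal.Quotient.mk_surjective
  obtain ⟨a, ha⟩ := exists_ringKrullDim_eq (R := S ⧸ P)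
  refine ⟨n, a, hn, (ringKrullDim_eq_of_ringEquiv eqP).trans ha, ?_, ?_, fun h3 => ?_⟩
  · have h1 := ringKrullDim_add_length_eq_ringKrullDim_of_isRegular l' hregP
    rw [← ringKrullDim_eq_of_ringEquiv eq, hn, IsLocalization.AtPrime.ringKrullDim_eq_height P, List.length_map] at h1
    have h2 := CatLib.ringKrullDim_quotient_add_height (isCM_of_isRegularLocalRing S) P
    rw [← h1, ha, hd] at h2
    have h4 : a + (n + l.length) = d := by exact_mod_cast h2
    omega
  · rw [le_depth_iff]
    exact four_le_depth hcm n hn.ge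
  · exact PurityCILib.purityHolds_ci l'.length (Localization.AtPrime P) l' rfl hregP (Localization.AtPrime q) eq
      (by rw [hn]; exact_mod_cast h3)

theorem purityHolds_vdim : ∀ (r : ℕ) (S : Type u) [CommRing S] [IsRegularLocalRing S]
    [IsAdicComplete (maximalIdeal S) S] (d : ℕ) (_ : ringKrullDim S = d) (g : List S) (_ : g.length = r)
    (_ : ∀ x ∈ g, x ∈ maximalIdeal S) (_ : r + 3 ≤ d) [IsLocalRing (S ⧸ Ideal.ofList g)],
    FEt.PurityHolds (S ⧸ Ideal.ofList g)
  | 0, S, _, _, _, d, hd, g, hl, _, hr, _ => by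
    rw [List.length_eq_zero_iff] at hl
    subst hl
    let e : (S ⧸ Ideal.ofList ([] : List S)) ≃+* S := (Ideal.quotEquivOfEq Ideal.ofList_nil).trans (RingEquiv.quotientBot S)
    haveI : IsRegularLocalRing (S ⧸ Ideal.ofList ([] : List S)) := IsRegularLocalRing.of_ringEquiv e.symm
    refine Groth.Agent.S0247.result _ ?_
    rw [ringKrullDim_eq_of_ringEquiv e, hd]
    exact_mod_cast (show 2 ≤ d by omega)
  | r + 1, S, _, _, _, d, hd, g, hl, hm, hr, _ => by
    obtain ⟨F, hlF, hF, hregF⟩ := exists_regOff g
    obtain ⟨l, x, rfl⟩ : ∃ l x, F = l ++ [x] := by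
      rcases List.eq_nil_or_concat F with h | ⟨l, b, h⟩
      · subst h; simp [hl] at hlF
      · exact ⟨l, b, by simpa using h⟩
    have hlr : l.length = r := by simp [hl] at hlF; omega
    have hle : Ideal.ofList g ≤ maximalIdeal S := ofList_le_iff.2 hm
    have hlm : ∀ y ∈ l ++ [x], y ∈ maximalIdeal S := fun y hy => hle (hF ▸ Ideal.subset_span hy)
    have hreg : RegOff (Ideal.ofList g) l := hregF.of_prefix
    let π := Ideal.Quotient.mk (Ideal.ofList l)
    haveI : Nontrivial (S ⧸ Ideal.ofList l) := Ideal.Quotient.nontrivial_iff.2 fun h =>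
      (maximalIdeal.isMaximal S).ne_top (top_le_iff.1 (h ▸ ofList_le_iff.2 fun y hy => hlm y (List.mem_append_left _ hy)))
    haveI : IsLocalRing (S ⧸ Ideal.ofList l) := IsLocalRing.of_surjective' π Ideal.Quotient.mk_surjective
    have hxm : π x ∈ maximalIdeal (S ⧸ Ideal.ofList l) := by
      rw [← IsLocalRing.map_maximalIdeal_of_surjective π Ideal.Quotient.mk_surjective]
      exact Ideal.mem_map_of_mem _ (hlm x (by simp))
    haveI := NormalLib.isAdicComplete_quotient_local (R := S) (Ideal.ofList l)
    haveI : IsAdicComplete (Ideal.span {π x}) (S ⧸ Ideal.ofList l) := Groth.Agent.S0546.result _ _ (maximalIdeal _)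
      ((Ideal.span_singleton_le_iff_mem _).2 hxm) (IsNoetherian.noetherian _) _
    have hI : ∀ q : Ideal (S ⧸ Ideal.ofList l), π x ∉ q → ¬ Ideal.ofList g ≤ q.comap π := fun q hq h =>
      hq (h (hF ▸ Ideal.subset_span (by simp)))
    let e : (S ⧸ Ideal.ofList l) ⧸ Ideal.span {π x} ≃+* S ⧸ Ideal.ofList g :=
      (Ideal.quotEquivOfEq (show Ideal.span {π x} = (Ideal.span {x}).map π by
        rw [Ideal.map_span, Set.image_singleton])).trans
        ((DoubleQuot.quotQuotEquivQuotSup (Ideal.ofList l) (Ideal.span {x})).trans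
          (Ideal.quotEquivOfEq (by rw [← hF, Ideal.ofList_append, Ideal.ofList_singleton])))
    haveI : IsLocalRing ((S ⧸ Ideal.ofList l) ⧸ Ideal.span {π x}) := e.symm.isLocalRing
    refine PurityGlueLib.purityHolds_of_ringEquiv e ?_
    refine Groth.Agent.S1142.result (S ⧸ Ideal.ofList l) (π x) hxm (Groth.Agent.S0376.result _)
      (Or.inr fun q hq hxq _ => ?_) (fun P hP => ?_)
      (purityHolds_vdim r S d hd l hlr (fun y hy => hlm y (List.mem_append_left _ hy)) (by omega))
    · haveI := hq
      obtain ⟨n, a, -, ha, hsum, hdep, -⟩ := localization_facts hd hreg q (hI q hxq)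
      rw [ha]
      refine lt_of_lt_of_le ?_ (add_le_add (WithBot.coe_le_coe.2 hdep) le_rfl)
      show ((3 : ℕ) : WithBot ℕ∞) < ((n : ℕ) : WithBot ℕ∞) + ((a : ℕ) : WithBot ℕ∞)
      rw [← Nat.cast_add]
      exact Nat.cast_lt.2 (show 3 < n + a by omega)
    · haveI := hP
      obtain ⟨hxq, hle1⟩ := ringKrullDim_quotient_le_one hxm P
      obtain ⟨n, a, -, ha, hsum, -, hpur⟩ := localization_facts hd hreg _ (hI _ hxq)
      rw [ha] at hle1
      have ha1 : a ≤ 1 := by exact_mod_cast hle1
      exact PurityGlueLib.purityHolds_of_ringEquiv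
        (IsLocalization.localizationLocalizationAtPrimeIsoLocalization (Submonoid.powers (π x)) P).toRingEquiv
        (hpur (by omega))

end VDimLib
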