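import Groth.Agent.CommAlgDim.Depth
import Mathlib.RingTheory.Ideal.AssociatedPrime.Localization
import Mathlib.RingTheory.Ideal.AssociatedPrime.Finiteness
import Mathlib.RingTheory.Regular.RegularSequence
import Mathlib.RingTheory.Localization.AtPrime.Basic

/-!
# Generators of an ideal which form regular sequences away from its zero locus
-/

set_option autoImplicit false
set_option linter.style.haveILetI false

universe u

open RingTheory.Sequence

namespace VDimLib

variable {S : Type u} [CommRing S]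

/-- Coset prime avoidance. -/
theorem exists_add_notMem (T : Finset (Ideal S)) (hT : ∀ Q ∈ T, Q.IsPrime) (g : S) (K : Ideal S)
    (h : ∀ Q ∈ T, g ∈ Q → ¬ K ≤ Q) : ∃ k ∈ K, ∀ Q ∈ T, g + k ∉ Q := by
  classical
  let T' := T.filter fun Q => ∀ Q' ∈ T, Q ≤ Q' → Q' = Q
  have hsub : ∀ Q ∈ T, ∃ Q' ∈ T', Q ≤ Q' := fun Q hQ => by
    obtain ⟨M, hQM, hM⟩ := T.exists_le_maximal hQ
    exact ⟨M, Finset.mem_filter.2 ⟨hM.1, fun Q' hQ' hle => le_antisymm (hM.2 hQ' hle) hle⟩, hQM⟩
  suffices hk : ∃ k ∈ K, ∀ Q ∈ T', g + k ∉ Q by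
    obtain ⟨k, hk, hk'⟩ := hk
    refine ⟨k, hk, fun Q hQ hm => ?_⟩
    obtain ⟨Q', hQ', hle⟩ := hsub Q hQ
    exact hk' Q' hQ' (hle hm)
  let T1 := T'.filter fun Q => g ∈ Q
  let T2 := T'.filter fun Q => g ∉ Q
  have hns : ¬ ((K ⊓ T2.inf id : Ideal S) : Set S) ⊆ ⋃ Q ∈ (↑T1 : Set (Ideal S)), (Q : Set S) := by
    intro hc
    obtain ⟨Q, hQ, hle⟩ := (Ideal.subset_union_prime (f := fun Q : Ideal S => Q) ⊥ ⊥
      (fun Q hQ _ _ => hT Q (Finset.mem_filter.1 (Finset.mem_filter.1 hQ).1).1)).1 hc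
    obtain ⟨hQ', hgQ⟩ := Finset.mem_filter.1 hQ
    obtain ⟨hQT, hQmax⟩ := Finset.mem_filter.1 hQ'
    rcases (hT Q hQT).inf_le.1 hle with h1 | h1
    · exact h Q hQT hgQ h1
    · obtain ⟨Q2, hQ2, hle2⟩ := (hT Q hQT).inf_le'.1 h1
      obtain ⟨hQ2', hgQ2⟩ := Finset.mem_filter.1 hQ2
      have he : Q = Q2 := (Finset.mem_filter.1 hQ2').2 Q hQT hle2
      exact hgQ2 (he ▸ hgQ)
  obtain ⟨k, hk, hk1⟩ := Set.not_subset.1 hns
  obtain ⟨hkK, hk2⟩ := Submodule.mem_inf.1 (SetLike.mem_coe.1 hk)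
  refine ⟨k, hkK, fun Q hQ hm => ?_⟩
  by_cases hg : g ∈ Q
  · exact hk1 (Set.mem_biUnion (Finset.mem_coe.2 (Finset.mem_filter.2 ⟨hQ, hg⟩)) ((Ideal.add_mem_iff_right _ hg).1 hm))
  · exact hg ((Ideal.add_mem_iff_left _
      (Finset.inf_le (f := id) (Finset.mem_filter.2 ⟨hQ, hg⟩ : Q ∈ T2) hk2)).1 hm)

variable [IsNoetherianRing S]

/-- An element outside the associated primes not containing `I` is regular away from `V(I)`. -/
theorem exists_mul_mem_of_notMem {I : Ideal S} (J : Ideal S) {x : S}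
    (hx : ∀ Q ∈ associatedPrimes S (S ⧸ J), ¬ I ≤ Q → x ∉ Q) (P : Ideal S) [hP : P.IsPrime] (hIP : ¬ I ≤ P)
    {a : S} (ha : ∃ t ∉ P, t * (x * a) ∈ J) : ∃ t ∉ P, t * a ∈ J := by
  obtain ⟨t, ht, hta⟩ := ha
  by_contra hcon
  push_neg at hcon
  let φ : S →ₗ[S] S ⧸ J := LinearMap.toSpanSingleton S (S ⧸ J) (Submodule.Quotient.mk a)
  let N := LinearMap.range φ
  have hmem : ∀ b : S, b ∈ Module.annihilator S N ↔ b * a ∈ J := fun b => by
    rw [Module.mem_annihilator]
    constructor
    · intro h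
      have h1 := congrArg Subtype.val (h ⟨φ 1, 1, rfl⟩)
      change b • (1 : S) • (Submodule.Quotient.mk a : S ⧸ J) = 0 at h1
      rwa [one_smul, ← Submodule.Quotient.mk_smul, Submodule.Quotient.mk_eq_zero, smul_eq_mul] at h1
    · rintro h ⟨_, c, rfl⟩
      refine Subtype.ext ?_
      show b • c • Submodule.Quotient.mk a = 0
      rw [← Submodule.Quotient.mk_smul, ← Submodule.Quotient.mk_smul, Submodule.Quotient.mk_eq_zero,
        smul_eq_mul, smul_eq_mul, mul_left_comm]
      exact J.mul_mem_left _ h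
  have hle : Module.annihilator S N ≤ P := fun b hb => by
    by_contra hbP
    exact hcon b hbP ((hmem b).1 hb)
  obtain ⟨Q, hQ, hQP⟩ := Ideal.exists_minimalPrimes_le hle
  have hQass : Q ∈ associatedPrimes S (S ⧸ J) :=
    associatedPrimes.subset_of_injective N.injective_subtype
      (Module.associatedPrimes.minimalPrimes_annihilator_subset_associatedPrimes S N hQ)
  have htx : t * x ∈ Q := hQ.1.2 ((hmem _).2 (by rwa [mul_assoc]))
  exact hx Q hQass (fun h => hIP (h.trans hQP)) ((hQ.1.1.mem_or_mem htx).resolve_left fun h => ht (hQP h))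

/-- The list is weakly regular at every prime not containing `I`. -/
def RegOff (I : Ideal S) (l : List S) : Prop :=
  ∀ (P : Ideal S) [P.IsPrime], ¬ I ≤ P →
    IsWeaklyRegular (Localization.AtPrime P) (l.map (algebraMap S (Localization.AtPrime P)))

theorem RegOff.concat {I : Ideal S} {l : List S} (hl : RegOff I l) {x : S}
    (hx : ∀ Q ∈ associatedPrimes S (S ⧸ Ideal.ofList l), ¬ I ≤ Q → x ∉ Q) : RegOff I (l ++ [x]) := by
  intro P hP hIP
  rw [List.map_append, isWeaklyRegular_append_iff]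
  refine ⟨hl P hIP, (isWeaklyRegular_singleton_iff _ _).2 ?_⟩
  rw [isSMulRegular_quotient_iff_mem_of_smul_mem]
  intro z hz
  rw [smul_eq_mul, Ideal.mul_top] at hz
  rw [smul_eq_mul, Ideal.mul_top]
  rw [← Ideal.map_ofList] at hz ⊢
  obtain ⟨a, s, rfl⟩ := IsLocalization.exists_mk'_eq P.primeCompl z
  rw [IsLocalization.mk'_mem_map_algebraMap_iff]
  have hz' : IsLocalization.mk' (Localization.AtPrime P) (x * a) s ∈
      (Ideal.ofList l).map (algebraMap S (Localization.AtPrime P)) := by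
    rwa [← IsLocalization.mul_mk'_eq_mk'_of_mul]
  obtain ⟨t, ht, hta⟩ := (IsLocalization.mk'_mem_map_algebraMap_iff P.primeCompl (Localization.AtPrime P) _ _ _).1 hz'
  exact exists_mul_mem_of_notMem _ hx P hIP ⟨t, ht, hta⟩

theorem RegOff.of_prefix {I : Ideal S} {l l' : List S} (h : RegOff I (l ++ l')) : RegOff I l := by
  intro P hP hIP
  have := h P hIP
  rw [List.map_append, isWeaklyRegular_append_iff] at this
  exact this.1

theorem exists_regOff_aux {I : Ideal S} : ∀ (rest pre : List S), RegOff I pre →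
    Ideal.ofList (pre ++ rest) = I →
    ∃ f : List S, f.length = pre.length + rest.length ∧ Ideal.ofList f = I ∧ RegOff I f
  | [], pre, hpre, hI => ⟨pre, by simp, by simpa using hI, hpre⟩
  | g :: rest, pre, hpre, hI => by
    classical
    have hfin := associatedPrimes.finite S (S ⧸ Ideal.ofList pre)
    obtain ⟨k, hk, hk'⟩ := exists_add_notMem (hfin.toFinset.filter fun Q => ¬ I ≤ Q)
      (fun Q hQ => ((Set.Finite.mem_toFinset hfin).1 (Finset.mem_filter.1 hQ).1).isPrime) g (Ideal.ofList rest)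
      (fun Q hQ hg hle => by
        obtain ⟨hQ1, hQ2⟩ := Finset.mem_filter.1 hQ
        have hJ : Ideal.ofList pre ≤ Q := by
          refine le_trans ?_ ((Set.Finite.mem_toFinset hfin).1 hQ1).annihilator_le
          rw [Submodule.annihilator_top, Ideal.annihilator_quotient]
        refine hQ2 ?_
        rw [← hI, Ideal.ofList_append, Ideal.ofList_cons]
        exact sup_le hJ (sup_le ((Ideal.span_singleton_le_iff_mem _).2 hg) hle))
    have hreg := hpre.concat (x := g + k) fun Q hQ hIQ =>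
      hk' Q (Finset.mem_filter.2 ⟨(Set.Finite.mem_toFinset hfin).2 hQ, hIQ⟩)
    have hI' : Ideal.ofList ((pre ++ [g + k]) ++ rest) = I := by
      rw [← hI, List.append_assoc, List.singleton_append, Ideal.ofList_append, Ideal.ofList_append,
        Ideal.ofList_cons, Ideal.ofList_cons]
      congr 1
      refine le_antisymm (sup_le ((Ideal.span_singleton_le_iff_mem _).2 (add_mem ?_ ?_)) le_sup_right)
        (sup_le ((Ideal.span_singleton_le_iff_mem _).2 ?_) le_sup_right)
      · exact Ideal.mem_sup_left (Ideal.mem_span_singleton_self g)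
      · exact Ideal.mem_sup_right hk
      · have h1 : g + k ∈ Ideal.span {g + k} ⊔ Ideal.ofList rest :=
          Ideal.mem_sup_left (Ideal.mem_span_singleton_self _)
        exact (Ideal.add_mem_iff_left _ (Ideal.mem_sup_right hk)).1 h1
    obtain ⟨f, hl, hf, hr⟩ := exists_regOff_aux rest (pre ++ [g + k]) hreg hI'
    exact ⟨f, by simp at hl ⊢; omega, hf, hr⟩

theorem exists_regOff (g : List S) :
    ∃ f : List S, f.length = g.length ∧ Ideal.ofList f = Ideal.ofList g ∧ RegOff (Ideal.ofList g) f := by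
  obtain ⟨f, hl, hf, hr⟩ := exists_regOff_aux (I := Ideal.ofList g) g []
    (fun P _ _ => by rw [List.map_nil]; exact IsWeaklyRegular.nil _ _) (by simp)
  exact ⟨f, by simpa using hl, hf, hr⟩

end VDimLib
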