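import Groth.Agent.VDimLib.Punctured
import Groth.Agent.HenselBranchLib.SHQuot
import Groth.Agent.LocAcycBCLib.Main
import Groth.Agent.CommAlgDim.Regular
import Groth.Agent.CatLib.Completion
import Groth.Agent.ConnInfLib.Ext
import Groth.Agent.S17758
import Groth.Agent.S0548
import Groth.Agent.S2743
import Groth.Agent.S0541
import Mathlib.RingTheory.AdicCompletion.LocalRing

/-! # Punctured spectra of local rings of virtual dimension at least two -/

set_option autoImplicit false
set_option linter.style.haveILetI false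
set_option backward.isDefEq.respectTransparency false
set_option backward.isDefEq.respectTransparency.types false
set_option maxHeartbeats 1000000

universe u

open IsLocalRing

noncomputable section

namespace VDimLib

/-- In a regular strictly local ring of dimension `d`, at most `d - 2` equations cut out a connected punctured
spectrum. -/
theorem isConnected_zeroLocus_punct (S : Type u) [CommRing S] [IsRegularLocalRing S] (d : ℕ)
    (hd : ringKrullDim S = d) (t : ℕ) (ht : t + 2 ≤ d) (f : Fin t → S)
    (hf : Ideal.span (Set.range f) ≠ ⊤) :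
    IsConnected {p : PrimeSpectrum S | Ideal.span (Set.range f) ≤ p.asIdeal ∧ p ≠ closedPoint S} := by
  let T := AdicCompletion (maximalIdeal S) S
  haveI : IsNoetherianRing T := AdicRingLib.isNoetherianRing_adicCompletion _
  haveI : IsRegularLocalRing T := (Groth.Agent.S0548.result S).1 ‹_›
  haveI : IsDomain T := CommAlgDim.isDomain_of_isRegularLocalRing T
  haveI : Module.FaithfullyFlat S T := Module.FaithfullyFlat.of_flat_of_isLocalHom
  have hm : (maximalIdeal S).map (algebraMap S T) = maximalIdeal T := AdicCompletion.maximalIdeal_eq_map.symm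
  let g := algebraMap S T
  have hI : Ideal.span (Set.range fun i => g (f i)) = (Ideal.span (Set.range f)).map g := by
    rw [Ideal.map_span, ← Set.range_comp]; rfl
  have hne : (Ideal.span (Set.range f)).map g ≠ ⊤ := fun h => by
    have hle : (Ideal.span (Set.range f)).map g ≤ maximalIdeal T := by
      rw [← hm]; exact Ideal.map_mono (le_maximalIdeal hf)
    exact (maximalIdeal.isMaximal T).ne_top (top_le_iff.1 (h ▸ hle))
  have h1 := Groth.Agent.S17758.result T d ((CatLib.ringKrullDim_cpl S).trans hd) t ht (fun i => g (f i))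
    ((Ideal.span (Set.range f)).map g) hne (by rw [hI])
  have : {p : PrimeSpectrum S | Ideal.span (Set.range f) ≤ p.asIdeal ∧ p ≠ closedPoint S} =
      PrimeSpectrum.comap g '' {x : PrimeSpectrum T | (Ideal.span (Set.range f)).map g ≤ x.asIdeal ∧
        x.asIdeal ≠ maximalIdeal T} := by
    refine Set.ext fun p => ⟨fun ⟨hp1, hp2⟩ => ?_, ?_⟩
    · obtain ⟨q, rfl⟩ := PrimeSpectrum.comap_surjective_of_faithfullyFlat (A := S) (B := T) p
      refine ⟨q, ⟨Ideal.map_le_iff_le_comap.2 hp1, fun hq => hp2 ?_⟩, rfl⟩
      rw [(eq_closedPoint_iff q).2 hq]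
      exact comap_closedPoint g
    · rintro ⟨q, ⟨hq1, hq2⟩, rfl⟩
      exact ⟨Ideal.map_le_iff_le_comap.1 hq1,
        fun h => hq2 ((eq_closedPoint_iff q).1 (eq_closedPoint_of_map_le hm q h))⟩
  rw [this]
  exact h1.image _ (PrimeSpectrum.continuous_comap g).continuousOn

variable (A : Type u) [CommRing A] [IsNoetherianRing A] [IsLocalRing A]
  (S : Type u) [CommRing S] [IsRegularLocalRing S]
  (d : ℕ) (hd : ringKrullDim S = d) (s : Finset S) (hs : s.card + 2 ≤ d)
  (e : AdicCompletion (maximalIdeal A) A ≃+* S ⧸ Ideal.span (s : Set S))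

include hd hs e in
/-- Strict henselizations of rings of virtual dimension at least two have connected punctured spectra. -/
theorem isConnected_punct_of_vdim (R : Type u) [CommRing R] [IsLocalRing R] [Algebra A R]
    [IsLocalHom (algebraMap A R)] [Hensel.IsStrictHenselization A R] : IsConnected (punct R) := by
  let I := Ideal.span (s : Set S)
  let B := AdicCompletion (maximalIdeal A) A
  haveI : Nontrivial (S ⧸ I) := e.symm.nontrivial
  have hItop : I ≠ ⊤ := Ideal.Quotient.nontrivial_iff.1 ‹_›
  let Sh := HenselLib.SH S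
  haveI : IsRegularLocalRing Sh := (Groth.Agent.S2743.result S Sh).2 ‹_›
  obtain ⟨_, _, _, hshq⟩ := HenselBranchLib.isStrictHenselization_quot S Sh I (le_maximalIdeal hItop)
  let Q := Sh ⧸ I.map (algebraMap S Sh)
  haveI := hshq
  obtain ⟨_, _, hBQ, -⟩ := LocAcycBCLib.exists_sh_of_equiv e Q
  haveI := hBQ
  haveI : HenselianLocalRing Q := hBQ.henselian
  haveI : IsSepClosed (ResidueField Q) := hBQ.isSepClosure.sep_closed
  haveI : Module.FaithfullyFlat B Q := Groth.Agent.S0539.result B Q
  letI : Algebra A Q := ((algebraMap B Q).comp (algebraMap A B)).toAlgebra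
  haveI : IsScalarTower A B Q := IsScalarTower.of_algebraMap_eq' rfl
  haveI : Module.Flat A Q := Module.Flat.trans A B Q
  haveI : IsLocalHom (algebraMap A Q) :=
    ⟨fun x hx => (isUnit_map_iff (algebraMap A B) x).1 ((isUnit_map_iff (algebraMap B Q) _).1 hx)⟩
  haveI : IsNoetherianRing Q := inferInstance
  have hm : (maximalIdeal A).map (algebraMap A Q) = maximalIdeal Q := by
    rw [IsScalarTower.algebraMap_eq A B Q, ← Ideal.map_map, ← AdicCompletion.maximalIdeal_eq_map]
    exact Groth.Agent.S0538.result B Q
  refine isConnected_punct_sh A hm ?_ R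
  let f : Fin s.card → Sh := fun i => algebraMap S Sh (s.equivFin.symm i)
  have hf : Ideal.span (Set.range f) = I.map (algebraMap S Sh) := by
    rw [Ideal.map_span]
    congr 1
    refine Set.ext fun x => ⟨?_, ?_⟩
    · rintro ⟨i, rfl⟩
      exact ⟨_, (s.equivFin.symm i).2, rfl⟩
    · rintro ⟨a, ha, rfl⟩
      exact ⟨s.equivFin ⟨a, ha⟩, by simp [f]⟩
  have hne : Ideal.span (Set.range f) ≠ ⊤ := by
    rw [hf]; exact Ideal.Quotient.nontrivial_iff.1 (inferInstance : Nontrivial Q)
  have h1 := isConnected_zeroLocus_punct Sh d ((Groth.Agent.S0541.result S Sh).trans hd) s.card hs f hne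
  rw [hf] at h1
  let q : Sh →+* Q := Ideal.Quotient.mk _
  have hq := PrimeSpectrum.isClosedEmbedding_comap_of_surjective Q q Ideal.Quotient.mk_surjective
  haveI : IsLocalHom q := IsLocalHom.of_surjective _ Ideal.Quotient.mk_surjective
  have himg : PrimeSpectrum.comap q '' punct Q =
      {p | I.map (algebraMap S Sh) ≤ p.asIdeal ∧ p ≠ closedPoint Sh} := by
    refine Set.ext fun p => ⟨?_, fun ⟨hp1, hp2⟩ => ?_⟩
    · rintro ⟨x, hx, rfl⟩
      refine ⟨fun a ha => ?_, fun h => hx (hq.injective (h.trans (comap_closedPoint q).symm))⟩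
      show q a ∈ x.asIdeal
      rw [show q a = 0 from Ideal.Quotient.eq_zero_iff_mem.2 ha]
      exact zero_mem _
    · have : p ∈ Set.range (PrimeSpectrum.comap q) := by
        rw [range_comap_of_surjective _ _ Ideal.Quotient.mk_surjective]
        simpa [q, Ideal.mk_ker, PrimeSpectrum.mem_zeroLocus] using hp1
      obtain ⟨x, rfl⟩ := this
      exact ⟨x, fun hx => hp2 (by rw [show x = closedPoint Q from hx]; exact comap_closedPoint q), rfl⟩
  obtain ⟨hne', hpre⟩ := himg ▸ h1
  exact ⟨hne'.of_image, hq.isInducing.isPreconnected_image.1 hpre⟩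

end VDimLib
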