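import Mathlib.RingTheory.Spectrum.Prime.RingHom
import Mathlib.RingTheory.LocalRing.RingHom.Basic
import Groth.Agent.S0538
import Groth.Agent.S0539
import Groth.Agent.HenselLib.HenselizationExists
import Groth.Agent.FlatLib.FibreLocal
import Groth.Agent.S0540

/-! # Connectedness of punctured spectra along faithfully flat local maps -/

set_option autoImplicit false
set_option linter.style.haveILetI false
set_option backward.isDefEq.respectTransparency false
set_option backward.isDefEq.respectTransparency.types false

universe u

open IsLocalRing

noncomputable section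

namespace VDimLib

variable {P Q : Type u} [CommRing P] [IsLocalRing P] [CommRing Q] [IsLocalRing Q]

/-- The primes of a local ring other than the maximal ideal. -/
def punct (P : Type u) [CommRing P] [IsLocalRing P] : Set (PrimeSpectrum P) := {closedPoint P}ᶜ

theorem eq_closedPoint_iff (p : PrimeSpectrum P) : p = closedPoint P ↔ p.asIdeal = maximalIdeal P :=
  PrimeSpectrum.ext_iff

theorem eq_closedPoint_of_map_le {g : P →+* Q} (hm : (maximalIdeal P).map g = maximalIdeal Q)
    (q : PrimeSpectrum Q) (hq : PrimeSpectrum.comap g q = closedPoint P) : q = closedPoint Q := by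
  refine (eq_closedPoint_iff q).2 (le_antisymm (le_maximalIdeal q.isPrime.ne_top) ?_)
  rw [← hm, Ideal.map_le_iff_le_comap]
  exact (congrArg PrimeSpectrum.asIdeal hq).ge

theorem comap_closed (g : P →+* Q) [IsLocalHom g] : PrimeSpectrum.comap g (closedPoint Q) = closedPoint P :=
  comap_closedPoint g

/-- A local map with surjective map on spectra and only the closed point over the closed point. -/
theorem isConnected_punct (g : P →+* Q) [IsLocalHom g] (hsur : Function.Surjective (PrimeSpectrum.comap g))
    (hmax : ∀ q, PrimeSpectrum.comap g q = closedPoint P → q = closedPoint Q) (h : IsConnected (punct Q)) :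
    IsConnected (punct P) := by
  have : punct P = PrimeSpectrum.comap g '' punct Q := by
    refine Set.ext fun p => ⟨fun hp => ?_, ?_⟩
    · obtain ⟨q, rfl⟩ := hsur p
      exact ⟨q, fun hq => hp (by rw [show q = closedPoint Q from hq]; exact comap_closed g), rfl⟩
    · rintro ⟨q, hq, rfl⟩ hp
      exact hq (hmax q hp)
  rw [this]
  exact h.image _ (PrimeSpectrum.continuous_comap g).continuousOn

/-- If a strict henselization maps compatibly to a flat Noetherian local algebra, it inherits connectedness. -/
theorem isConnected_punct_sh (A : Type u) [CommRing A] [IsLocalRing A] [IsNoetherianRing A] [IsNoetherianRing Q]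
    [Algebra A Q] [Module.Flat A Q] [IsLocalHom (algebraMap A Q)] [HenselianLocalRing Q]
    [IsSepClosed (ResidueField Q)]
    (hm : (maximalIdeal A).map (algebraMap A Q) = maximalIdeal Q) (h : IsConnected (punct Q))
    (R : Type u) [CommRing R] [IsLocalRing R] [Algebra A R] [IsLocalHom (algebraMap A R)]
    [hR : Hensel.IsStrictHenselization A R] : IsConnected (punct R) := by
  haveI : IsNoetherianRing R := (Groth.Agent.S0540.result A R).1 ‹_›
  letI : Algebra (ResidueField A) (ResidueField Q) := (ResidueField.map (algebraMap A Q)).toAlgebra
  haveI := hR.isSepClosure.separable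
  let τ : ResidueField R →ₐ[ResidueField A] ResidueField Q := IsSepClosed.lift
  obtain ⟨g, ⟨hg, hgτ⟩, -⟩ := hR.universal Q (algebraMap A Q) τ.toRingHom
    (RingHom.ext fun x => τ.commutes x)
  letI : Algebra R Q := g.toAlgebra
  haveI : IsScalarTower A R Q := IsScalarTower.of_algebraMap_eq' hg.symm
  haveI hloc : IsLocalHom (algebraMap R Q) := ⟨fun x hx => by
    by_contra hxu
    refine (residue_ne_zero_iff_isUnit (g x)).2 hx ?_
    rw [hgτ x, (residue_eq_zero_iff x).2 hxu, map_zero]⟩
  have hmR : (maximalIdeal A).map (algebraMap A R) = maximalIdeal R := Groth.Agent.S0538.result A R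
  have hfib : Module.Flat (R ⧸ (maximalIdeal A).map (algebraMap A R))
      (TensorProduct R (R ⧸ (maximalIdeal A).map (algebraMap A R)) Q) := by
    haveI : ((maximalIdeal A).map (algebraMap A R)).IsMaximal := hmR ▸ maximalIdeal.isMaximal R
    letI := Ideal.Quotient.field ((maximalIdeal A).map (algebraMap A R))
    infer_instance
  haveI : Module.Flat R Q := (FlatLib.flat_and_flat_of_fibre (R := A) (S := R) (S' := Q) (M := Q) hfib).2
  haveI : Module.FaithfullyFlat R Q := Module.FaithfullyFlat.of_flat_of_isLocalHom
  refine isConnected_punct (algebraMap R Q) PrimeSpectrum.comap_surjective_of_faithfullyFlat (fun q hq => ?_) h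
  refine eq_closedPoint_of_map_le ?_ q hq
  refine le_antisymm (((local_hom_TFAE _).out 0 2).1 hloc) ?_
  rw [← hmR, Ideal.map_map, ← IsScalarTower.algebraMap_eq, hm]

/-- The punctured spectrum of a local ring inherits connectedness from a strict henselization. -/
theorem isConnected_punct_of_sh (A : Type u) [CommRing A] [IsLocalRing A]
    (R : Type u) [CommRing R] [IsLocalRing R] [Algebra A R] [IsLocalHom (algebraMap A R)]
    [Hensel.IsStrictHenselization A R] (h : IsConnected (punct R)) : IsConnected (punct A) := by
  haveI : Module.FaithfullyFlat A R := Groth.Agent.S0539.result A R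
  exact isConnected_punct (algebraMap A R) PrimeSpectrum.comap_surjective_of_faithfullyFlat
    (eq_closedPoint_of_map_le (Groth.Agent.S0538.result A R)) h

end VDimLib
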